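import Groth.Agent.TwBCLib.Sections
import Groth.Agent.DCohLib.ProjMap
import Groth.Agent.DCohMore.BCTheta
import Groth.Agent.DCohMore.GoodMod
import Groth.Agent.QCohLib.Push
import Groth.Agent.S12131

/-!
# The projection formula for an affine morphism
-/

set_option autoImplicit false
set_option backward.isDefEq.respectTransparency false
set_option linter.style.haveILetI false

universe u

open CategoryTheory CategoryTheory.Limits AlgebraicGeometry TopologicalSpace Opposite MonoidalCategory
open Groth.Agent.DCohLib Groth.Agent.PullFlat Groth.Agent.ModTensor Groth.Agent.PullbackMod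
open scoped TensorProduct

noncomputable section

namespace Groth.Agent.ProjAffLib

theorem bijective_of_comp {A B : Type u} [CommRing A] [CommRing B] [Algebra A B]
    {M N N' P : Type u} [AddCommGroup M] [Module A M] [Module B M] [IsScalarTower A B M]
    [AddCommGroup N] [Module A N] [AddCommGroup N'] [Module A N'] [Module B N'] [IsScalarTower A B N']
    [AddCommGroup P] (θ : N →ₗ[A] N') (hθ : IsBaseChange B θ) (a : M ⊗[A] N → P)
    (b : M ⊗[B] N' → P) (hb : Function.Bijective b) (h0 : a 0 = b 0)
    (ha : ∀ x y z w, a x = b z → a y = b w → a (x + y) = b (z + w))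
    (h : ∀ m n, a (m ⊗ₜ[A] n) = b (m ⊗ₜ[B] θ n)) : Function.Bijective a := by
  let e : M ⊗[A] N ≃ₗ[B] M ⊗[B] N' :=
    (TensorProduct.AlgebraTensorModule.cancelBaseChange A B B M N).symm ≪≫ₗ
      TensorProduct.AlgebraTensorModule.congr (LinearEquiv.refl B M) hθ.equiv
  have he : a = b ∘ e := by
    funext x
    induction x using TensorProduct.induction_on with
    | zero => rw [Function.comp_apply, map_zero]; exact h0
    | tmul m n =>
      rw [Function.comp_apply, h]
      congr 1
      simp [e, IsBaseChange.equiv_tmul]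
    | add x y hx hy => rw [Function.comp_apply, map_add]; exact ha x y _ _ hx hy
  rw [he]
  exact hb.comp e.bijective

variable {X Y : Scheme.{u}}

theorem pairS_map_left {M M' : X.Modules} (g : M ⟶ M') (N : X.Modules) {U : X.Opens} (m : Γ(M, U))
    (n : Γ(N, U)) :
    (((DCoh.tensorBi (X := X)).map g).app N).app U (pairS M N m n) = pairS M' N (g.app U m) n :=
  (congr(($(shUnit_naturality X.sheaf ((preFunctor X.sheaf).map g ▷ pre X.sheaf N))).app (op U)
    (m ⊗ₜ[Γ(X, U)] n : Γ(M, U) ⊗[Γ(X, U)] Γ(N, U)))).symm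

variable (f : X ⟶ Y)

theorem tensorCmp_unit {C D : Type u} [SmallCategory C] [SmallCategory D]
    {J : GrothendieckTopology C} {K : GrothendieckTopology D} {O_C : Sheaf J CommRingCat.{u}}
    {O_D : Sheaf K CommRingCat.{u}} (φ : ModSite.RMor O_C O_D) (M N : ModSite.Mod O_D) {V : D}
    (m : (pre O_D M).obj (op V)) (n : (pre O_D N).obj (op V)) :
    lin ((preFunctor O_C).map (tensorCmp φ M N)) (op (φ.fn.obj V))
        (unitSec φ (tens O_D M N) (pairT O_D M N m n)) =
      pairT O_C (φ.pull.obj M) (φ.pull.obj N) (unitSec φ M m) (unitSec φ N n) := by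
  have h := tensorCmp_gen φ M N (W := φ.fn.obj V) (V := V) (𝟙 _) m n
  simp only [gen, op_id, res_id] at h
  exact h

theorem pullTensor_pairS (A N : Y.Modules) {V : Y.Opens} (a : Γ(A, V)) (n : Γ(N, V)) :
    (((pullTensorBiIsoSch f).hom.app A).app N).app (f ⁻¹ᵁ V)
        (((Scheme.Modules.pullbackPushforwardAdjunction f).unit.app (tmod A N)).app V (pairS A N a n)) =
      pairS ((Scheme.Modules.pullback f).obj A) ((Scheme.Modules.pullback f).obj N)
        (((Scheme.Modules.pullbackPushforwardAdjunction f).unit.app A).app V a)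
        (((Scheme.Modules.pullbackPushforwardAdjunction f).unit.app N).app V n) :=
  tensorCmp_unit (ModSite.RMor.ofScheme f) A N a n

theorem comp_push_app {A : Y.Modules} {B C : X.Modules} (g : A ⟶ (Scheme.Modules.pushforward f).obj B)
    (h : B ⟶ C) (V : Y.Opens) (s : Γ(A, V)) :
    (g ≫ (Scheme.Modules.pushforward f).map h).app V s = h.app (f ⁻¹ᵁ V) (g.app V s) := rfl

theorem comp_app' {A B C : X.Modules} (g : A ⟶ B) (h : B ⟶ C) (U : X.Opens) (s : Γ(A, U)) :
    (g ≫ h).app U s = h.app U (g.app U s) := rfl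

theorem projMap_pairS (M : X.Modules) (N : Y.Modules) {V : Y.Opens} (m : Γ(M, f ⁻¹ᵁ V)) (n : Γ(N, V)) :
    (projMap f M N).app V (pairS ((Scheme.Modules.pushforward f).obj M) N m n) =
      pairS M ((Scheme.Modules.pullback f).obj N) m (pullMap f N le_rfl n) := by
  let A := (Scheme.Modules.pushforward f).obj M
  refine (comp_push_app f (A := tmod A N)
    (B := (Scheme.Modules.pullback f).obj (tmod A N))
    (C := tmod M ((Scheme.Modules.pullback f).obj N))
    ((Scheme.Modules.pullbackPushforwardAdjunction f).unit.app (tmod A N)) (projPre f M N) V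
    (pairS A N m n)).trans ?_
  refine (comp_app' (((pullTensorBiIsoSch f).hom.app A).app N) _ (f ⁻¹ᵁ V) _).trans ?_
  refine (congrArg _ (pullTensor_pairS f A N m n)).trans ?_
  refine (pairS_map_left _ _ _ _).trans ?_
  refine congrArg₂ (pairS M ((Scheme.Modules.pullback f).obj N)) ?_ ?_
  · let adj := Scheme.Modules.pullbackPushforwardAdjunction f
    have h0 : adj.unit.app A ≫ (Scheme.Modules.pushforward f).map (adj.counit.app M) = 𝟙 A :=
      adj.right_triangle_components M
    have h : (adj.unit.app A ≫ (Scheme.Modules.pushforward f).map (adj.counit.app M)).app V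
        (show Γ(A, V) from m) = (show Γ(A, V) from m) := by
      rw [h0]
      rfl
    exact (comp_push_app f (A := A) (adj.unit.app A) (adj.counit.app M) V m).symm.trans h
  · exact (CohBase.restr_self _ le_rfl _).symm

/-- The projection map is an isomorphism for an affine morphism and quasi-coherent modules. -/
theorem isIso_projMap [IsAffineHom f] (M : X.Modules) (N : Y.Modules) [Coh.IsQCoh M] [Coh.IsQCoh N] :
    IsIso (projMap f M N) := by
  haveI : Coh.IsQCoh ((Scheme.Modules.pushforward f).obj M) := QCohLib.isQCoh_pushforward M f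
  haveI : Coh.IsQCoh ((Scheme.Modules.pullback f).obj N) := isQCoh_pullback f N
  refine Groth.Agent.S12131.isIso_of_bijective_small _ fun y => ⟨⊤, trivial, fun V hV _ => ?_⟩
  have hU : IsAffineOpen (f ⁻¹ᵁ V) := hV.preimage f
  let U := f ⁻¹ᵁ V
  letI : Algebra Γ(Y, V) Γ(X, U) := (f.app V).hom.toAlgebra
  letI : Module Γ(Y, V) Γ((Scheme.Modules.pullback f).obj N, U) :=
    Module.compHom _ (f.appLE V U le_rfl).hom
  haveI : IsScalarTower Γ(Y, V) Γ(X, U) Γ((Scheme.Modules.pullback f).obj N, U) :=
    .of_algebraMap_smul fun r x => by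
      show (f.app V).hom r • x = (f.appLE V U le_rfl).hom r • x
      rw [Scheme.Hom.app_eq_appLE]
  letI : Module Γ(Y, V) Γ(M, U) := Module.compHom _ (f.app V).hom
  haveI : IsScalarTower Γ(Y, V) Γ(X, U) Γ(M, U) := .of_algebraMap_smul fun _ _ => rfl
  have hθ : IsBaseChange Γ(X, U) (pullMapL f N (le_rfl : U ≤ f ⁻¹ᵁ V)) := by
    have h := isBaseChange_pullMapL f N hV hU (le_rfl : U ≤ f ⁻¹ᵁ V)
    convert h using 2
    exact Scheme.Hom.app_eq_appLE f ▸ rfl
  let a : Γ(M, U) ⊗[Γ(Y, V)] Γ(N, V) → Γ(tmod M ((Scheme.Modules.pullback f).obj N), U) := fun z =>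
    (projMap f M N).app V (TwBCLib.pairL ((Scheme.Modules.pushforward f).obj M) N V z)
  have hbij : Function.Bijective a := by
    refine bijective_of_comp (pullMapL f N le_rfl) hθ a
      (TwBCLib.pairL M ((Scheme.Modules.pullback f).obj N) U) (TwBCLib.bijective_pairL _ _ hU) ?_ ?_ ?_
    · show (projMap f M N).app V (TwBCLib.pairL _ N V 0) = _
      rw [map_zero, map_zero, map_zero]
    · intro x y z w hx hy
      show (projMap f M N).app V (TwBCLib.pairL _ N V (x + y)) = _
      rw [map_add, map_add, map_add, ← hx, ← hy]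
    · intro m n
      exact projMap_pairS f M N m n
  exact (Function.Bijective.of_comp_iff _ (TwBCLib.bijective_pairL _ N hV)).1 hbij

end Groth.Agent.ProjAffLib
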